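import Groth.Agent.Lib.Hens.Colim
import Mathlib

/-!
# Maps from finitely presented algebras into a strict henselization factor through etale algebras
-/

universe u

set_option backward.isDefEq.respectTransparency.types false

namespace Groth.Agent.ShChart24

open Groth.Agent.Hens

theorem exists_etale_factor {R Ω : Type u} [CommRing R] [Field Ω] [Algebra R Ω] {B : Type u} [CommRing B]
    [Algebra R B] [Algebra.FinitePresentation R B] (φ : B →ₐ[R] Hs R Ω) :
    ∃ (E : Type u) (_ : CommRing E) (_ : Algebra R E) (_ : Algebra.Etale R E) (ψ : B →ₐ[R] E)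
      (θ : E →ₐ[R] Hs R Ω), θ.comp ψ = φ := by
  classical
  obtain ⟨n, π, hπ, hker⟩ := (Algebra.FinitePresentation.out :
    ∃ (n : ℕ) (f : MvPolynomial (Fin n) R →ₐ[R] B), Function.Surjective f ∧ (RingHom.ker f.toRingHom).FG)
  obtain ⟨P, hP⟩ := hker
  obtain ⟨i, hi⟩ := Hs.exists_of_finset Finset.univ fun a : Fin n => φ (π (MvPolynomial.X a))
  choose y hy using fun a => hi a (Finset.mem_univ a)
  have hφ : (Hs.of i).comp (MvPolynomial.aeval y) = φ.comp π := MvPolynomial.algHom_ext fun a => by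
    simp [hy a]
  have hPk : ∀ p : P, ∃ k : Nbhd R Ω, ∃ h : i ≤ k, Nbhd.map h (MvPolynomial.aeval y p.1) = 0 := by
    intro p
    have hp : π p.1 = 0 := (hP ▸ Ideal.subset_span p.2 : p.1 ∈ RingHom.ker π.toRingHom)
    have : Hs.of i (MvPolynomial.aeval y p.1) = Hs.of i 0 := by
      rw [map_zero]
      exact (congrArg (fun f : MvPolynomial (Fin n) R →ₐ[R] Hs R Ω => f p.1) hφ).trans
        ((congrArg φ hp).trans (map_zero φ))
    obtain ⟨k, hik, hik', h⟩ := Hs.of_eq_of_iff.1 this
    exact ⟨k, hik, h.trans (map_zero _)⟩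
  choose k hik hk using hPk
  obtain ⟨m, hm⟩ := Finset.exists_le (insert i (Finset.univ.image k))
  have him : i ≤ m := hm i (Finset.mem_insert_self _ _)
  let y' : Fin n → m.G := fun a => Nbhd.map him (y a)
  have hy' : ∀ p : P, MvPolynomial.aeval y' p.1 = 0 := by
    intro p
    have hkm : k p ≤ m := hm _ (Finset.mem_insert_of_mem (Finset.mem_image_of_mem k (Finset.mem_univ p)))
    have h1 : MvPolynomial.aeval y' p.1 = Nbhd.map him (MvPolynomial.aeval y p.1) :=
      (MvPolynomial.comp_aeval_apply y (Nbhd.map him) p.1).symm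
    rw [h1]
    refine Eq.trans ?_ (map_zero (Nbhd.map hkm))
    rw [← hk p]
    exact congrArg (fun f : i.G →ₐ[R] m.G => f (MvPolynomial.aeval y p.1))
      (Nbhd.map_eq him (φ := (Nbhd.map hkm).comp (Nbhd.map (hik p))) (AlgHom.ext fun x => by simp [Nbhd.res_map]))
  obtain ⟨g, hg, hz⟩ := Hs.exists_away m Finset.univ y'
  choose z hz using fun a => hz a (Finset.mem_univ a)
  let E₀ := Localization.Away g
  let L : E₀ →ₐ[R] m.G := IsLocalization.Away.liftAlgHom g (f := IsScalarTower.toAlgHom R m.S m.G)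
    (IsLocalization.map_units (M := m.q.primeCompl) m.G ⟨g, hg⟩)
  have hL : ∀ a, L (z a) = y' a := hz
  have hu : ∀ p : P, ∃ u : m.S, m.σ u ≠ 0 ∧ algebraMap m.S E₀ u * MvPolynomial.aeval z p.1 = 0 := by
    intro p
    obtain ⟨w, t, hwt⟩ := IsLocalization.exists_mk'_eq (Submonoid.powers g) (MvPolynomial.aeval z p.1)
    have h0 : L (MvPolynomial.aeval z p.1) = 0 := by
      rw [MvPolynomial.comp_aeval_apply, show (fun a => L (z a)) = y' from funext hL, hy']
    have h1 : algebraMap m.S m.G w = 0 := by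
      have h2 := congrArg L (IsLocalization.mk'_spec E₀ w t)
      rw [map_mul, hwt, h0, zero_mul] at h2
      refine Eq.trans ?_ h2.symm
      exact (IsLocalization.Away.lift_eq g (S := E₀) (g := (IsScalarTower.toAlgHom R m.S m.G).toRingHom)
        (IsLocalization.map_units (M := m.q.primeCompl) m.G ⟨g, hg⟩) w).symm
    obtain ⟨u, hu⟩ := (IsLocalization.map_eq_zero_iff m.q.primeCompl m.G w).1 h1
    refine ⟨u, u.2, ?_⟩
    rw [← hwt, IsLocalization.mul_mk'_eq_mk'_of_mul, hu, IsLocalization.mk'_zero]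
  choose u hu hu0 using hu
  let U : E₀ := algebraMap m.S E₀ (∏ p, u p)
  haveI : Algebra.Etale m.S E₀ := Algebra.Etale.of_isLocalizationAway g
  haveI : Algebra.Etale R E₀ := Algebra.Etale.comp R m.S E₀
  let E := Localization.Away U
  haveI : Algebra.Etale E₀ E := Algebra.Etale.of_isLocalizationAway U
  haveI : Algebra.Etale R E := Algebra.Etale.comp R E₀ E
  have hLu : IsUnit (((Hs.of m).comp L) U) := by
    refine IsUnit.map (Hs.of m) ?_
    show IsUnit (L U)
    rw [show L U = algebraMap m.S m.G (∏ p, u p) from IsLocalization.Away.lift_eq g (S := E₀)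
      (g := (IsScalarTower.toAlgHom R m.S m.G).toRingHom) (IsLocalization.map_units (M := m.q.primeCompl) m.G ⟨g, hg⟩) _]
    refine IsLocalization.map_units (M := m.q.primeCompl) m.G ⟨_, ?_⟩
    refine fun h => ?_
    have h' : m.σ (∏ p, u p) = 0 := h
    rw [map_prod] at h'
    revert h'
    exact Finset.prod_ne_zero_iff.2 fun p _ => hu p
  let θ : E →ₐ[R] Hs R Ω := IsLocalization.Away.liftAlgHom U (f := (Hs.of m).comp L) hLu
  let ψ₀ : MvPolynomial (Fin n) R →ₐ[R] E := (IsScalarTower.toAlgHom R E₀ E).comp (MvPolynomial.aeval z)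
  have hker' : RingHom.ker π.toRingHom ≤ RingHom.ker ψ₀.toRingHom := by
    rw [← hP, Ideal.span_le]
    intro p hp
    show algebraMap E₀ E (MvPolynomial.aeval z p) = 0
    have h2 : IsUnit (algebraMap E₀ E (algebraMap m.S E₀ (u ⟨p, hp⟩))) := by
      have := IsLocalization.Away.algebraMap_isUnit (S := E) U
      simp only [U] at this
      rw [← Finset.mul_prod_erase _ u (Finset.mem_univ (⟨p, hp⟩ : P)), map_mul, map_mul] at this
      exact isUnit_of_mul_isUnit_left this
    refine h2.mul_left_cancel ?_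
    rw [mul_zero, ← map_mul, hu0 ⟨p, hp⟩, map_zero]
  let ψ : B →ₐ[R] E := AlgHom.liftOfSurjective π hπ ψ₀ hker'
  refine ⟨E, inferInstance, inferInstance, inferInstance, ψ, θ, ?_⟩
  have hψ : ψ.comp π = ψ₀ := AlgHom.ext fun x => AlgHom.liftOfSurjective_apply π hπ ψ₀ hker' x
  refine AlgHom.ext fun b => ?_
  obtain ⟨q, rfl⟩ := hπ b
  have : (θ.comp ψ).comp π = φ.comp π := by
    rw [AlgHom.comp_assoc, hψ, ← hφ]
    refine MvPolynomial.algHom_ext fun a => ?_
    show θ (algebraMap E₀ E (MvPolynomial.aeval z (MvPolynomial.X a))) = Hs.of i (MvPolynomial.aeval y (MvPolynomial.X a))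
    rw [MvPolynomial.aeval_X, MvPolynomial.aeval_X]
    refine (IsLocalization.Away.lift_eq U (S := E) (g := ((Hs.of m).comp L).toRingHom) hLu _).trans ?_
    show Hs.of m (L (z a)) = _
    rw [hL, Hs.of_map]
  exact congrArg (fun f : MvPolynomial (Fin n) R →ₐ[R] Hs R Ω => f q) this

end Groth.Agent.ShChart24
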