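import Groth.Agent.Lib.ShFlat24.PairModel
import Groth.Agent.Lib.ShChart24.HsHom
import Groth.Agent.Lib.SmoothPt12.Basic
import Groth.Agent.Lib.SepDense19.Basic
import Groth.Agent.Lib.SectionCompFlat4
import Groth.Agent.Lib.AbSchRigid22.Basic
import Groth.Agent.Lib.AlgSpDecent.HasAtChart
import Groth.Agent.Lib.Gabber24.Same
import Groth.Agent.S5038

/-!
# Charts with connected fibres at geometric points of flat morphisms with geometrically reduced fibres
-/

universe u

open CategoryTheory CategoryTheory.Limits AlgebraicGeometry Opposite IsLocalRing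

set_option backward.isDefEq.respectTransparency.types false

namespace Groth.Agent.ShChart24

open Groth.Agent.EtStalk Groth.Agent.Hens

/-- A morphism from a strict henselization to a scheme locally of finite presentation extends to an
etale neighbourhood. -/
theorem exists_etale_extension {S Z : Scheme.{u}} {U : S.Opens} (hU : IsAffineOpen U) {Ω : Type u} [Field Ω]
    [Algebra Γ(S, U) Ω] (g : Z ⟶ S) [LocallyOfFinitePresentation g]
    (u : Spec (CommRingCat.of (Hs Γ(S, U) Ω)) ⟶ Z)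
    (hu : u ≫ g = Spec.map (CommRingCat.ofHom (algebraMap Γ(S, U) (Hs Γ(S, U) Ω))) ≫ hU.fromSpec) :
    ∃ (V : S.Etale) (σ : V.left ⟶ Z) (a : Spec (CommRingCat.of (Hs Γ(S, U) Ω)) ⟶ V.left) (v : V.left ⟶ U.toScheme),
      IsAffine V.left ∧ v ≫ U.ι = V.hom ∧ σ ≫ g = V.hom ∧ a ≫ σ = u ∧
      a ≫ V.hom = Spec.map (CommRingCat.ofHom (algebraMap Γ(S, U) (Hs Γ(S, U) Ω))) ≫ hU.fromSpec := by
  let R : Type u := Γ(S, U)
  let A := Hs R Ω
  let c : Spec (CommRingCat.of A) := IsLocalRing.closedPoint A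
  have hc : u c ∈ g ⁻¹ᵁ U := by
    show g (u c) ∈ U
    rw [← Scheme.Hom.comp_apply, hu, Scheme.Hom.comp_apply]
    exact hU.range_fromSpec.le ⟨_, rfl⟩
  obtain ⟨O, hO, hcO, hOU⟩ := exists_isAffineOpen_mem_and_subset (X := Z) (x := u c) (U := g ⁻¹ᵁ U) hc
  let u' : Spec (CommRingCat.of A) ⟶ Spec Γ(Z, O) := IsOpenImmersion.lift hO.fromSpec u (by
    rintro _ ⟨x, rfl⟩
    rw [hO.range_fromSpec]
    exact (((IsLocalRing.specializes_closedPoint x).map u.continuous).mem_open O.2 hcO))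
  have hu' : u' ≫ hO.fromSpec = u := IsOpenImmersion.lift_fac _ _ _
  obtain ⟨φ, hφ⟩ : ∃ φ, Spec.map φ = u' := ⟨_, Spec.map_preimage _⟩
  let ρ : Γ(S, U) ⟶ Γ(Z, O) := g.appLE U O hOU
  have hρ : ρ ≫ φ = CommRingCat.ofHom (algebraMap R A) := by
    apply Spec.map_injective
    rw [← cancel_mono hU.fromSpec, Spec.map_comp, Category.assoc, hφ,
      IsAffineOpen.SpecMap_appLE_fromSpec g hU hO hOU, ← Category.assoc, hu', hu]
  letI : Algebra R Γ(Z, O) := ρ.hom.toAlgebra
  haveI : Algebra.FinitePresentation R Γ(Z, O) :=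
    HasRingHomProperty.appLE @LocallyOfFinitePresentation g inferInstance ⟨U, hU⟩ ⟨O, hO⟩ hOU
  let φ' : Γ(Z, O) →ₐ[R] A := { φ.hom with commutes' := fun r => congr($(hρ).hom r) }
  obtain ⟨E, _, _, _, ψ, θ, hθ⟩ := exists_etale_factor φ'
  haveI : AlgebraicGeometry.Etale (Spec.map (CommRingCat.ofHom (algebraMap R E))) :=
    (HasRingHomProperty.Spec_iff (P := @AlgebraicGeometry.Etale)).2 (RingHom.etale_algebraMap.2 inferInstance)
  let e : Spec (CommRingCat.of E) ⟶ Spec Γ(S, U) := Spec.map (CommRingCat.ofHom (algebraMap R E))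
  haveI : AlgebraicGeometry.Etale e := ‹AlgebraicGeometry.Etale (Spec.map (CommRingCat.ofHom (algebraMap R E)))›
  refine ⟨MorphismProperty.Over.mk ⊤ (e ≫ hU.fromSpec) inferInstance,
    Spec.map (CommRingCat.ofHom ψ.toRingHom) ≫ hO.fromSpec, Spec.map (CommRingCat.ofHom θ.toRingHom),
    e ≫ hU.isoSpec.inv, inferInstanceAs (IsAffine (Spec (CommRingCat.of E))), ?_, ?_, ?_, ?_⟩
  · show (e ≫ hU.isoSpec.inv) ≫ U.ι = e ≫ hU.fromSpec
    rw [Category.assoc, IsAffineOpen.isoSpec_inv_ι]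
  · show (Spec.map (CommRingCat.ofHom ψ.toRingHom) ≫ hO.fromSpec) ≫ g = e ≫ hU.fromSpec
    rw [Category.assoc, ← IsAffineOpen.SpecMap_appLE_fromSpec g hU hO hOU, ← Category.assoc, ← Spec.map_comp]
    congr 2
    exact CommRingCat.hom_ext (RingHom.ext fun r => ψ.commutes r)
  · show Spec.map (CommRingCat.ofHom θ.toRingHom) ≫ Spec.map (CommRingCat.ofHom ψ.toRingHom) ≫ hO.fromSpec = u
    rw [← Category.assoc, ← Spec.map_comp, ← CommRingCat.ofHom_comp,
      show θ.toRingHom.comp ψ.toRingHom = φ'.toRingHom from congrArg AlgHom.toRingHom hθ]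
    exact (congrArg (· ≫ hO.fromSpec) hφ).trans hu'
  · show Spec.map (CommRingCat.ofHom θ.toRingHom) ≫ e ≫ hU.fromSpec = _
    rw [← Category.assoc, ← Spec.map_comp]
    congr 2
    exact CommRingCat.hom_ext (RingHom.ext fun r => θ.commutes r)

variable {X S : Scheme.{u}} (f : X ⟶ S)

/-- Etale schemes over a scheme with geometrically reduced fibres have geometrically reduced fibres. -/
theorem geometricallyReduced_of_etale (hf : ShFlat24.GeomRedFibres f) (W : X.Etale) :
    GeometricallyReduced (W.hom ≫ f) := by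
  refine ⟨geometrically_iff_of_isClosedUnderIsomorphisms.2 fun K _ k => ?_⟩
  haveI := hf.2 K k
  haveI : AlgebraicGeometry.Etale W.hom := W.prop
  let m : pullback (W.hom ≫ f) k ⟶ pullback f k :=
    pullback.lift (pullback.fst (W.hom ≫ f) k ≫ W.hom) (pullback.snd (W.hom ≫ f) k)
      (by rw [Category.assoc, pullback.condition])
  have sq : IsPullback (pullback.fst (W.hom ≫ f) k) m W.hom (pullback.fst f k) := by
    refine IsPullback.of_bot ?_ (pullback.lift_fst _ _ _).symm (IsPullback.of_hasPullback f k)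
    rw [show m ≫ pullback.snd f k = pullback.snd (W.hom ≫ f) k from pullback.lift_snd _ _ _]
    exact IsPullback.of_hasPullback (W.hom ≫ f) k
  haveI : AlgebraicGeometry.Etale m := MorphismProperty.of_isPullback sq ‹AlgebraicGeometry.Etale W.hom›
  haveI : ∀ z, _root_.IsReduced ((pullback (W.hom ≫ f) k).presheaf.stalk z) := fun z =>
    (AlgSpDecent.isReduced_stalk_etale m z).2 inferInstance
  exact isReduced_of_isReduced_stalk _

variable [Flat f]

/-- A rational point in the smooth locus of the component of a point. -/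
theorem exists_rational_smooth {k : Type u} [Field k] [IsSepClosed k] {P : Scheme.{u}}
    (p : P ⟶ Spec (CommRingCat.of k)) [LocallyOfFinitePresentation p] [GeometricallyReduced p] (p₀ : P) :
    ∃ u₀ : Spec (CommRingCat.of k) ⟶ P, u₀ ≫ p = 𝟙 _ ∧ u₀ default ∈ connectedComponent p₀ ∧
      u₀ default ∈ p.smoothLocus := by
  letI : P.Over (Spec (CommRingCat.of k)) := ⟨p⟩
  haveI : LocallyOfFiniteType (P ↘ Spec (CommRingCat.of k)) := inferInstanceAs (LocallyOfFiniteType p)
  haveI : GeometricallyReduced (P ↘ Spec (CommRingCat.of k)) := ‹GeometricallyReduced p›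
  haveI : LocallyOfFinitePresentation (P ↘ Spec (CommRingCat.of k)) := ‹LocallyOfFinitePresentation p›
  haveI : IsLocallyNoetherian P := LocallyOfFiniteType.isLocallyNoetherian p
  haveI := SectionCompOpen4.locallyConnectedSpace P
  let C : P.Opens := ⟨connectedComponent p₀, isOpen_connectedComponent⟩
  obtain ⟨η, hηC, hηs⟩ := (SepDense19.dense_smoothLocus (k := k) (X := P)).inter_open_nonempty _ C.2
    ⟨p₀, mem_connectedComponent⟩
  obtain ⟨y, ⟨hyC, hys⟩, -, hfin, hsep⟩ :=
    SepDense19.exists_separable_point (k := k) (C ⊓ p.smoothLocus) (x := η) ⟨hηC, hηs⟩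
  letI : Algebra k (P.residueField y) := Curv2.resAlgebra k P y
  haveI := hfin
  haveI := hsep
  let e : k ≃ₐ[k] P.residueField y := AlgEquiv.ofBijective (Algebra.ofId k (P.residueField y))
    ⟨RingHom.injective _, IsSepClosed.algebraMap_surjective k (P.residueField y)⟩
  let u₀ : Spec (CommRingCat.of k) ⟶ P :=
    Spec.map (CommRingCat.ofHom e.symm.toRingEquiv.toRingHom) ≫ P.fromSpecResidueField y
  have hy : u₀ default = y := by
    rw [Scheme.Hom.comp_apply]
    exact Scheme.fromSpecResidueField_apply _ _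
  refine ⟨u₀, ?_, hy ▸ hyC, hy ▸ hys⟩
  have h0 : Spec.map (CommRingCat.ofHom (Curv2.resMap k P y)) = P.fromSpecResidueField y ≫ p :=
    GeomIrr.spec_resMap k P y
  rw [Category.assoc, ← h0, ← Spec.map_comp, ← Spec.map_id, ← CommRingCat.ofHom_comp]
  congr 1
  exact CommRingCat.hom_ext (RingHom.ext fun c => e.symm_apply_apply c)

set_option maxHeartbeats 1000000 in
/-- Charts with geometrically connected fibres. -/
theorem exists_chart (hf : ShFlat24.GeomRedFibres f) {Ω : Type u} [Field Ω] [IsSepClosed Ω]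
    (ξ : Spec (CommRingCat.of Ω) ⟶ X) (W₀ : X.Etale) (w₀ : fib ξ W₀) :
    ∃ (W : X.Etale) (m : W ⟶ W₀) (w : fib ξ W) (V : S.Etale) (k : W.left ⟶ V.left)
      (_ : GeometricallyConnected k) (_ : UniversallyOpen k),
      (w.left : Spec (CommRingCat.of Ω) ⟶ W.left) ≫ m.left = w₀.left ∧ k ≫ V.hom = W.hom ≫ f ∧
      (Smooth f → Smooth k) := by
  haveI := hf.1
  haveI : AlgebraicGeometry.Etale W₀.hom := W₀.prop
  let η := ξ ≫ f
  let x₀ : W₀.left := fibPt w₀
  let wl : Spec (CommRingCat.of Ω) ⟶ W₀.left := w₀.left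
  have hwl : wl ≫ W₀.hom = ξ := Over.w w₀
  obtain ⟨U, hU, hxU, -⟩ : ∃ U : S.Opens, IsAffineOpen U ∧ η default ∈ U ∧ (U : Set S) ⊆ Set.univ :=
    exists_isAffineOpen_mem_and_subset (U := (⊤ : S.Opens)) trivial
  have hx₀ : x₀ ∈ (W₀.hom ≫ f) ⁻¹ᵁ U := by
    show (W₀.hom ≫ f) (wl default) ∈ U
    rw [← Scheme.Hom.comp_apply, ← Category.assoc, hwl]
    exact hxU
  obtain ⟨O₁, hO₁, hxO₁, hO₁U⟩ := exists_isAffineOpen_mem_and_subset (X := W₀.left) (x := x₀) hx₀
  let W₁ : X.Etale := EtSite.sub W₀ O₁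
  haveI : AlgebraicGeometry.Etale W₁.hom := W₁.prop
  haveI : IsAffine W₁.left := hO₁
  let w₁ : Spec (CommRingCat.of Ω) ⟶ O₁.toScheme := IsOpenImmersion.lift O₁.ι wl (by
    rw [Scheme.Opens.range_ι]
    rintro _ ⟨z, rfl⟩
    rw [Subsingleton.elim z default]
    exact hxO₁)
  have hw₁ : w₁ ≫ O₁.ι = wl := IsOpenImmersion.lift_fac _ _ _
  let g : W₁.left ⟶ S := W₁.hom ≫ f
  haveI : GeometricallyReduced g := geometricallyReduced_of_etale f hf W₁
  haveI : Flat g := inferInstanceAs (Flat (W₁.hom ≫ f))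
  haveI : LocallyOfFinitePresentation g := inferInstanceAs (LocallyOfFinitePresentation (W₁.hom ≫ f))
  have hw₁g : w₁ ≫ g = η := by
    show w₁ ≫ (O₁.ι ≫ W₀.hom) ≫ f = ξ ≫ f
    rw [← Category.assoc, ← Category.assoc, hw₁]
    exact congrArg (· ≫ f) hwl
  let g₁ : W₁.left ⟶ U.toScheme := IsOpenImmersion.lift U.ι g (by
    rintro _ ⟨z, rfl⟩
    rw [Scheme.Opens.range_ι]
    exact hO₁U z.2)
  have hg₁ : g₁ ≫ U.ι = g := IsOpenImmersion.lift_fac _ _ _
  -- the strict henselization below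
  let η₀ : Spec (CommRingCat.of Ω) ⟶ U.toScheme := IsOpenImmersion.lift U.ι η (by
    rw [Scheme.Opens.range_ι]
    rintro _ ⟨z, rfl⟩
    rw [Subsingleton.elim z default]
    exact hxU)
  have hη₀ : η₀ ≫ U.ι = η := IsOpenImmersion.lift_fac _ _ _
  let φ : Γ(S, U) ⟶ CommRingCat.of Ω := Spec.preimage (η₀ ≫ hU.isoSpec.hom)
  have hφ : Spec.map φ ≫ hU.fromSpec = η := by
    rw [Spec.map_preimage, Category.assoc, ← IsAffineOpen.isoSpec_inv_ι, Iso.hom_inv_id_assoc, hη₀]
  let R : Type u := Γ(S, U)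
  letI : Algebra R Ω := φ.hom.toAlgebra
  let A := Hs R Ω
  let q : Ideal R := RingHom.ker (algebraMap R Ω)
  haveI : q.IsPrime := RingHom.ker_isPrime _
  obtain ⟨_, _, -, hsh⟩ := HensPt14.exists_isStrictHenselization (R := R) (K := Ω) q (fun r => Iff.rfl)
    (Localization.AtPrime q)
  haveI : IsSepClosed (ResidueField A) := hsh.isSepClosure.sep_closed
  let α : Spec (CommRingCat.of A) ⟶ S := Spec.map (CommRingCat.ofHom (algebraMap R A) : Γ(S, U) ⟶ _) ≫ hU.fromSpec
  let κ := ResidueField A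
  let cA : Spec (CommRingCat.of κ) ⟶ Spec (CommRingCat.of A) := Spec.map (CommRingCat.ofHom (residue A))
  let ζ : Spec (CommRingCat.of Ω) ⟶ Spec (CommRingCat.of κ) :=
    Spec.map (CommRingCat.ofHom (HensPt14.resK (R := R) (K := Ω)))
  have hζ : ζ ≫ cA ≫ α = η := by
    rw [← hφ]
    show Spec.map _ ≫ Spec.map _ ≫ Spec.map (CommRingCat.ofHom (algebraMap R A) : Γ(S, U) ⟶ _) ≫ hU.fromSpec = _
    rw [← Spec.map_comp_assoc, ← Spec.map_comp_assoc]
    congr 2
    exact CommRingCat.hom_ext (RingHom.ext fun r => (Hs.res (R := R) (K := Ω)).commutes r)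
  -- the closed fibre
  let p := pullback.snd g (cA ≫ α)
  haveI : GeometricallyReduced p := MorphismProperty.pullback_snd _ _ ‹GeometricallyReduced g›
  haveI : LocallyOfFinitePresentation p := MorphismProperty.pullback_snd _ _ ‹LocallyOfFinitePresentation g›
  let ω : Spec (CommRingCat.of Ω) ⟶ pullback g (cA ≫ α) := pullback.lift w₁ ζ (hw₁g.trans hζ.symm)
  obtain ⟨u₀, hu₀, hu₀C, hu₀s⟩ := exists_rational_smooth p (ω default)
  let y := u₀ ≫ pullback.fst g (cA ≫ α)
  have hyg : y ≫ g = cA ≫ α := by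
    rw [Category.assoc, pullback.condition, ← Category.assoc]
    exact (congrArg (· ≫ cA ≫ α) hu₀).trans (Category.id_comp _)
  have hys : y default ∈ g.smoothLocus := by
    rw [← SmoothPt12.smoothPt_iff_mem]
    have h := (SmoothPt12.smoothPt_iff_mem p (u₀ default)).2 hu₀s
    rw [SmoothPt12.smoothPt_baseChange_iff (IsPullback.of_hasPullback g (cA ≫ α)) (u₀ default)
      (Or.inl (Flat.stalkMap g _))] at h
    rwa [Scheme.Hom.comp_apply]
  -- lifting to the henselian ring
  let Os : W₁.left.Opens := g.smoothLocus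
  haveI : Smooth (Os.ι ≫ g) := by
    rw [← Scheme.Hom.smoothLocus_eq_top_iff, ← Scheme.Hom.preimage_smoothLocus_eq]
    exact top_le_iff.mp fun z _ => z.2
  let y' : Spec (CommRingCat.of κ) ⟶ Os.toScheme := IsOpenImmersion.lift Os.ι y (by
    rw [Scheme.Opens.range_ι]
    rintro _ ⟨z, rfl⟩
    rw [Subsingleton.elim z default]
    exact hys)
  have hy' : y' ≫ Os.ι = y := IsOpenImmersion.lift_fac _ _ _
  haveI : Smooth (pullback.snd (Os.ι ≫ g) α) := MorphismProperty.pullback_snd _ _ ‹Smooth (Os.ι ≫ g)›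
  obtain ⟨l, hl₁, hl₂⟩ := S5038.result A (pullback.snd (Os.ι ≫ g) α)
    (pullback.lift y' cA (by rw [← Category.assoc, hy', hyg])) (pullback.lift_snd _ _ _)
  let u : Spec (CommRingCat.of A) ⟶ W₁.left := l ≫ pullback.fst (Os.ι ≫ g) α ≫ Os.ι
  have hu : u ≫ g = α := by
    simp only [u, Category.assoc]
    rw [pullback.condition, ← Category.assoc, hl₁, Category.id_comp]
  have hcu : cA ≫ u = y := by
    simp only [u]
    rw [← Category.assoc, ← Category.assoc, hl₂, pullback.lift_fst, hy']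
  obtain ⟨V, σ, a, v, hVaff, hv, hσ, haσ, ha⟩ := exists_etale_extension hU g u hu
  haveI := hVaff
  haveI : AlgebraicGeometry.Etale V.hom := V.prop
  -- the chart over the neighbourhood
  let fst₂ := pullback.fst g V.hom
  let k₂ := pullback.snd g V.hom
  haveI : IsAffine U.toScheme := hU
  haveI hsqU : IsPullback (pullback.fst g₁ v) (pullback.snd g₁ v) g V.hom := by
    have h := IsPullback.of_isLimit (pullbackIsPullbackOfCompMono g₁ v U.ι)
    simp only [hg₁, hv] at h
    exact h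
  let e₂ := hsqU.isoPullback
  haveI : IsAffine (pullback g V.hom) := IsAffine.of_isIso e₂.inv
  haveI : IsAffine ((𝟭 Scheme).obj V.left) := hVaff
  haveI : IsAffineHom k₂ := isAffineHom_of_isAffine _
  let s : V.left ⟶ pullback g V.hom := pullback.lift σ (𝟙 _) (by rw [hσ, Category.id_comp])
  have hs : s ≫ k₂ = 𝟙 _ := pullback.lift_snd _ _ _
  haveI : Flat k₂ := MorphismProperty.pullback_snd _ _ ‹Flat g›
  haveI : LocallyOfFinitePresentation k₂ := MorphismProperty.pullback_snd _ _ ‹LocallyOfFinitePresentation g›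
  haveI : GeometricallyReduced k₂ := MorphismProperty.pullback_snd _ _ ‹GeometricallyReduced g›
  have hopen : IsOpen (MoreMor.sectionComponents k₂ s) := by
    rw [isOpen_iff_mem_nhds]
    intro z hz
    refine mem_interior_iff_mem_nhds.1 (SectionCompFlat4.subset_interior k₂ hs (y := k₂ z) (fun c _ => ?_) hz)
    haveI : GeometricallyReduced (k₂.fiberToSpecResidueField (k₂ c)) :=
      MorphismProperty.pullback_snd _ _ ‹GeometricallyReduced k₂›
    exact SectionCompFlat4.isGeomReducedAt_of_geometricallyReduced (k := V.left.residueField (k₂ c)) _ _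
  haveI : AlgebraicGeometry.Etale fst₂ := MorphismProperty.pullback_fst _ _ ‹AlgebraicGeometry.Etale V.hom›
  let W₂ : X.Etale := MorphismProperty.Over.mk ⊤ (fst₂ ≫ W₁.hom) inferInstance
  let O₃ : (pullback g V.hom).Opens := ⟨MoreMor.sectionComponents k₂ s, hopen⟩
  let k₃ : O₃.toScheme ⟶ V.left := O₃.ι ≫ k₂
  let s₃ : V.left ⟶ O₃.toScheme := IsOpenImmersion.lift O₃.ι s (by
    rw [Scheme.Opens.range_ι]
    rintro _ ⟨z, rfl⟩
    show s z ∈ connectedComponentIn (k₂ ⁻¹' {k₂ (s z)}) (s (k₂ (s z)))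
    rw [SectionCompConn4.apply_section hs]
    exact mem_connectedComponentIn (SectionCompConn4.apply_section hs z))
  have hs₃ : s₃ ≫ k₃ = 𝟙 _ := by
    show s₃ ≫ O₃.ι ≫ k₂ = _
    rw [← Category.assoc, IsOpenImmersion.lift_fac]
    exact hs
  haveI hgc : GeometricallyConnected k₃ := by
    refine AbSchRigid22.geometricallyConnected_of_section k₃ s₃ hs₃ fun z => ?_
    have hpre : O₃.ι '' (k₃ ⁻¹' {z}) = connectedComponentIn (k₂ ⁻¹' {z}) (s z) := by
      refine Set.Subset.antisymm ?_ fun c hc => ?_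
      · rintro _ ⟨c, hc, rfl⟩
        have h : O₃.ι c ∈ MoreMor.sectionComponents k₂ s := c.2
        have e : k₂ (O₃.ι c) = z := hc
        show O₃.ι c ∈ _
        exact e ▸ h
      · have e : k₂ c = z := Set.mem_singleton_iff.1 (connectedComponentIn_subset (k₂ ⁻¹' {z}) (s z) hc)
        refine ⟨⟨c, show c ∈ connectedComponentIn (k₂ ⁻¹' {k₂ c}) (s (k₂ c)) by rw [e]; exact hc⟩, e, rfl⟩
    have hconn : _root_.IsConnected (k₃ ⁻¹' {z}) := by
      refine ⟨⟨s₃ z, SectionCompConn4.apply_section hs₃ z⟩, ?_⟩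
      rw [← O₃.ι.isEmbedding.isInducing.isPreconnected_image, hpre]
      exact isPreconnected_connectedComponentIn
    haveI := Subtype.connectedSpace hconn
    exact (k₃.fiberHomeo z).connectedSpace_iff.2 inferInstance
  -- the point
  let vκ : Spec (CommRingCat.of κ) ⟶ V.left := cA ≫ a
  let μ : pullback g (cA ≫ α) ⟶ pullback g V.hom :=
    pullback.lift (pullback.fst g (cA ≫ α)) (p ≫ vκ) (by
      rw [Category.assoc, Category.assoc, ha, pullback.condition])
  let w₂ : Spec (CommRingCat.of Ω) ⟶ pullback g V.hom := ω ≫ μ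
  have hμu : u₀ ≫ μ = vκ ≫ s := by
    refine pullback.hom_ext ?_ ?_
    · rw [Category.assoc, pullback.lift_fst, Category.assoc, pullback.lift_fst]
      show y = (cA ≫ a) ≫ σ
      rw [Category.assoc, haσ, hcu]
    · rw [Category.assoc, pullback.lift_snd, ← Category.assoc, Category.assoc vκ, hs, Category.comp_id]
      exact (congrArg (· ≫ vκ) hu₀).trans (Category.id_comp _)
  have hw₂mem : w₂ default ∈ O₃ := by
    have hk : ∀ c : (pullback g (cA ≫ α) : Scheme.{u}), k₂ (μ c) = vκ default := fun c => by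
      rw [← Scheme.Hom.comp_apply, pullback.lift_snd, Scheme.Hom.comp_apply,
        Subsingleton.elim (p c) default]
    show w₂ default ∈ connectedComponentIn (k₂ ⁻¹' {k₂ (w₂ default)}) (s (k₂ (w₂ default)))
    rw [show w₂ default = μ (ω default) from Scheme.Hom.comp_apply _ _ _, hk, ← Scheme.Hom.comp_apply, ← hμu,
      Scheme.Hom.comp_apply]
    refine (isPreconnected_connectedComponent.image μ μ.continuous.continuousOn).subset_connectedComponentIn
      ⟨u₀ default, hu₀C, rfl⟩ ?_ ⟨ω default, mem_connectedComponent, rfl⟩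
    rintro _ ⟨c, -, rfl⟩
    exact hk c
  let W : X.Etale := EtSite.sub W₂ O₃
  let w₃ : Spec (CommRingCat.of Ω) ⟶ O₃.toScheme := IsOpenImmersion.lift O₃.ι w₂ (by
    rw [Scheme.Opens.range_ι]
    rintro _ ⟨z, rfl⟩
    rw [Subsingleton.elim z default]
    exact hw₂mem)
  have hw₃ : w₃ ≫ O₃.ι = w₂ := IsOpenImmersion.lift_fac _ _ _
  have hw₂₁ : w₂ ≫ fst₂ = w₁ := by
    show (ω ≫ μ) ≫ fst₂ = w₁
    rw [Category.assoc, pullback.lift_fst]
    exact pullback.lift_fst _ _ _
  let m₂ : W₂ ⟶ W₁ := MorphismProperty.Over.homMk fst₂ rfl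
  haveI huo : UniversallyOpen k₃ := inferInstance
  refine ⟨W, EtSite.subHom W₂ O₃ ≫ m₂ ≫ EtSite.subHom W₀ O₁, Over.homMk w₃ ?_, V, k₃, hgc, huo,
    ?_, ?_, fun hsm => ?_⟩
  · show w₃ ≫ O₃.ι ≫ fst₂ ≫ O₁.ι ≫ W₀.hom = ξ
    rw [← Category.assoc, hw₃, ← Category.assoc, hw₂₁, ← Category.assoc]
    exact (congrArg (· ≫ W₀.hom) hw₁).trans hwl
  · show w₃ ≫ O₃.ι ≫ fst₂ ≫ O₁.ι = w₀.left
    rw [← Category.assoc, hw₃, ← Category.assoc, hw₂₁]
    exact hw₁
  · show (O₃.ι ≫ k₂) ≫ V.hom = (O₃.ι ≫ fst₂ ≫ W₁.hom) ≫ f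
    simp only [Category.assoc]
    rw [← pullback.condition]
  · haveI : Smooth g := inferInstanceAs (Smooth (W₁.hom ≫ f))
    haveI : Smooth k₂ := MorphismProperty.pullback_snd _ _ ‹Smooth g›
    exact inferInstanceAs (Smooth (O₃.ι ≫ k₂))

end Groth.Agent.ShChart24
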