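import Groth.Agent.Lib.ShChart24.Section
import Groth.Agent.Lib.ShChart24.Chart
import Mathlib.CategoryTheory.Limits.Preserves.Shapes.Products
import Mathlib.CategoryTheory.Limits.ConcreteCategory.Basic

/-!
# Pullback along flat morphisms with geometrically reduced fibres preserves products
-/

universe u

open CategoryTheory CategoryTheory.Limits AlgebraicGeometry Opposite

set_option backward.isDefEq.respectTransparency.types false

namespace Groth.Agent.ShChart24

open Groth.Agent.EtStalk Groth.Agent.Gabber24 Groth.Agent.ConnDescent24 Groth.Agent.ProperPush24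

/-- Sections of a product are families of sections. -/
theorem bijective_pi_sections {X : Scheme.{u}} {ι : Type u} (G : ι → EtCoh.Ab X) (W : X.Etale) :
    Function.Bijective (fun (t : (∏ᶜ G).obj.obj (op W)) (i : ι) => (Pi.π G i).hom.app (op W) t) := by
  let E := sheafToPresheaf (Scheme.smallEtaleTopology X) AddCommGrpCat.{u + 1} ⋙
    (evaluation _ AddCommGrpCat.{u + 1}).obj (op W) ⋙ forget AddCommGrpCat.{u + 1}
  have hl := isLimitOfPreserves E (limit.isLimit (Discrete.functor G))
  have hb := (Types.isLimit_iff_bijective_sectionOfCone _).1 ⟨hl⟩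
  constructor
  · intro t t' h
    refine hb.1 (Subtype.ext (funext fun ⟨i⟩ => congrFun h i))
  · intro y
    obtain ⟨t, ht⟩ := hb.2 ⟨fun j => y j.as, fun {j j'} m => by
      obtain rfl := Discrete.ext (Discrete.eq_of_hom m)
      rw [Subsingleton.elim m (𝟙 j)]
      simp⟩
    exact ⟨t, funext fun i => congrFun (congrArg Subtype.val ht) ⟨i⟩⟩

variable {X S : Scheme.{u}} (f : X ⟶ S) {W : X.Etale} {V : S.Etale} (k : W.left ⟶ V.left)
  (hk : k ≫ V.hom = W.hom ≫ f)

/-- Naturality of the sections coming from a chart. -/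
lemma chartRes_nat {F G : EtCoh.Ab S} (φ : F ⟶ G) (s : F.obj.obj (op V)) :
    ((EtCoh.pull f).map φ).hom.app (op W) (chartRes f F k hk s) = chartRes f G k hk (φ.hom.app (op V) s) := by
  show ((EtCoh.pull f).map φ).hom.app (op W) (((EtCoh.pull f).obj F).obj.map (toBc f k hk).op (res f F s)) = _
  rw [NatTrans.naturality_apply]
  refine congrArg _ ?_
  exact (congrArg (fun t : F ⟶ (EtCoh.push f).obj ((EtCoh.pull f).obj G) => t.hom.app (op V) s)
    ((EtCoh.pullPushAdj f).unit.naturality φ)).symm

lemma chartRes_zero (F : EtCoh.Ab S) : chartRes f F k hk 0 = 0 :=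
  (congrArg (((EtCoh.pull f).obj F).obj.map (toBc f k hk).op) (map_zero _)).trans (map_zero _)

variable [Flat f]

theorem bijective_stalk_piComparison (hf : ShFlat24.GeomRedFibres f) {ι : Type u} (F : ι → EtCoh.Ab S)
    {Ω : Type u} [Field Ω] [IsSepClosed Ω] (ξ : Spec (CommRingCat.of Ω) ⟶ X) :
    Function.Bijective ((EtCoh.stalk ξ).map (piComparison (EtCoh.pull f) F)) := by
  let G := fun i => (EtCoh.pull f).obj (F i)
  let c := piComparison (EtCoh.pull f) F
  have hc : ∀ (i : ι) (W : X.Etale) (t : ((EtCoh.pull f).obj (∏ᶜ F)).obj.obj (op W)),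
      (Pi.π G i).hom.app (op W) (c.hom.app (op W) t) = ((EtCoh.pull f).map (Pi.π F i)).hom.app (op W) t := fun i W t =>
    congrArg (fun m : (EtCoh.pull f).obj (∏ᶜ F) ⟶ G i => m.hom.app (op W) t) (piComparison_comp_π (EtCoh.pull f) F i)
  constructor
  · refine (injective_iff_map_eq_zero ((EtCoh.stalk ξ).map c).hom).2 fun p hp => ?_
    obtain ⟨W₀, w₀, σ, rfl⟩ := germ_surjective ξ _ p
    have hp' : germ ξ (∏ᶜ G) w₀ (c.hom.app (op W₀) σ) = germ ξ (∏ᶜ G) w₀ 0 := by
      rw [map_zero, ← germ_nat]
      exact hp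
    obtain ⟨W₁, m₁, w₁, hw₁, h₁⟩ := (germ_eq_iff ξ _ w₀ _ _).1 hp'
    obtain ⟨W, m, w, V, k, hgc, huo, hw, hk, -⟩ := exists_chart f hf ξ W₁ w₁
    obtain ⟨s, hs⟩ := chartRes_surjective f (∏ᶜ F) k hk (((EtCoh.pull f).obj (∏ᶜ F)).obj.map (m ≫ m₁).op σ)
    have hs0 : s = 0 := by
      refine (bijective_pi_sections F V).1 (funext fun i => ?_)
      haveI : Surjective k := inferInstance
      show (Pi.π F i).hom.app (op V) s = (Pi.π F i).hom.app (op V) 0
      refine chartRes_injective f (F i) k hk ?_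
      rw [← chartRes_nat, ← chartRes_nat, ← hc, ← hc]
      refine congrArg _ ?_
      rw [hs, chartRes_zero, map_zero, NatTrans.naturality_apply, op_comp, Functor.map_comp_apply, h₁, map_zero, map_zero]
    have e : (Scheme.pointSmallEtale ξ).fiber.map (m ≫ m₁) w = w₀ := by
      rw [FunctorToTypes.map_comp_apply, show (Scheme.pointSmallEtale ξ).fiber.map m w = w₁ from
        Over.OverMorphism.ext hw, hw₁]
    rw [← e, ← germ_map, ← hs, hs0, chartRes_zero, map_zero]
  · intro q
    obtain ⟨W₀, w₀, t, rfl⟩ := germ_surjective ξ _ q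
    obtain ⟨W, m, w, V, k, hgc, huo, hw, hk, -⟩ := exists_chart f hf ξ W₀ w₀
    let t' := (∏ᶜ G).obj.map m.op t
    choose si hsi using fun i => chartRes_surjective f (F i) k hk ((Pi.π G i).hom.app (op W) t')
    obtain ⟨s, hs⟩ := (bijective_pi_sections F V).2 si
    refine ⟨germ ξ _ w (chartRes f (∏ᶜ F) k hk s), ?_⟩
    rw [germ_nat]
    have e : (Scheme.pointSmallEtale ξ).fiber.map m w = w₀ := Over.OverMorphism.ext hw
    rw [← e, ← germ_map]
    refine congrArg _ ((bijective_pi_sections G W).1 (funext fun i => ?_))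
    show (Pi.π G i).hom.app (op W) (c.hom.app (op W) _) = (Pi.π G i).hom.app (op W) t'
    rw [hc, chartRes_nat, ← hsi i, show (Pi.π F i).hom.app (op V) s = si i from congrFun hs i]

theorem preservesProducts (hf : ShFlat24.GeomRedFibres f) (ι : Type u) :
    PreservesLimitsOfShape (Discrete ι) (EtCoh.pull f) := by
  refine @preservesLimitsOfShape_of_discrete _ _ _ _ ι (EtCoh.pull f) fun F => ?_
  haveI : IsIso (piComparison (EtCoh.pull f) F) := by
    rw [isIso_iff_stalk]
    intro Ω _ _ ξ
    exact bijective_stalk_piComparison f hf F ξ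
  exact PreservesProduct.of_iso_comparison (EtCoh.pull f) F

end Groth.Agent.ShChart24
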