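import Groth.Agent.Lib.ShChart24.Section
import Groth.Agent.Lib.ShChart24.Chart
import Groth.Agent.Lib.EtStalk.FiniteSplit
import Groth.Agent.Lib.FinCondH13.Components
import Groth.Agent.Lib.SmoothReg17.Basic

/-!
# Sections on a fibrewise dense open of a smooth scheme
-/

universe u

open CategoryTheory CategoryTheory.Limits AlgebraicGeometry Opposite

set_option backward.isDefEq.respectTransparency.types false

namespace Groth.Agent.ShChart24

open Groth.Agent.EtStalk Groth.Agent.Gabber24 Groth.Agent.ConnDescent24 Groth.Agent.ProperPush24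

/-- An open meeting all fibres of a smooth morphism with geometrically connected fibres has
geometrically connected fibres. -/
theorem geometricallyConnected_restrict {W U V : Scheme.{u}} (k : W ⟶ V) [Smooth k] [GeometricallyConnected k]
    (j : U ⟶ W) [IsOpenImmersion j] [Surjective (j ≫ k)] : GeometricallyConnected (j ≫ k) := by
  refine ⟨fun K _ y P p q h => ?_⟩
  let F := pullback k y
  haveI : ConnectedSpace F := GeometricallyConnected.geometrically_connectedSpace (f := k) _ _ _
    (IsPullback.of_hasPullback k y)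
  haveI : Smooth (pullback.snd k y) := MorphismProperty.pullback_snd _ _ ‹Smooth k›
  haveI : IsLocallyNoetherian F := LocallyOfFiniteType.isLocallyNoetherian (pullback.snd k y)
  haveI : IsIntegral F := FinCondH13.isIntegral_iff'.2
    ⟨inferInstance, fun z => SmoothReg17.isDomain_stalk (pullback.snd k y) z⟩
  let m : P ⟶ F := pullback.lift (p ≫ j) q (by rw [Category.assoc, h.w])
  have sq : IsPullback p m j (pullback.fst k y) := by
    refine IsPullback.of_bot ?_ (pullback.lift_fst _ _ _).symm (IsPullback.of_hasPullback k y)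
    rw [show m ≫ pullback.snd k y = q from pullback.lift_snd _ _ _]
    exact h
  haveI : IsOpenImmersion m := MorphismProperty.of_isPullback sq ‹IsOpenImmersion j›
  haveI : Surjective q := MorphismProperty.of_isPullback h ‹Surjective (j ≫ k)›
  obtain ⟨z, -⟩ := (inferInstance : Surjective q).surj (default : Spec (CommRingCat.of K))
  haveI : Nonempty P := ⟨z⟩
  haveI : IrreducibleSpace P := by
    have hr : IsPreirreducible (Set.range m) := by
      exact (IrreducibleSpace.isIrreducible_univ F).2.open_subset m.isOpenEmbedding.isOpen_range (Set.subset_univ _)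
    haveI : PreirreducibleSpace P := ⟨by
      rw [← Set.preimage_range (f := m)]
      exact hr.preimage m.isOpenEmbedding⟩
    exact ⟨inferInstance⟩
  show ConnectedSpace P
  infer_instance

variable {X S : Scheme.{u}} (f : X ⟶ S) {U : Scheme.{u}} (j : U ⟶ X) [IsOpenImmersion j]

/-- A fibrewise dense open meets every fibre of a chart. -/
theorem surjective_restrict (hd : ∀ x : X, x ∈ closure (Set.range j ∩ {y : X | f.base y = f.base x}))
    {W : X.Etale} {V : S.Etale} (k : W.left ⟶ V.left) (hk : k ≫ V.hom = W.hom ≫ f) [Surjective k] :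
    Surjective (bcFst j W ≫ k) := by
  refine ⟨fun v => ?_⟩
  haveI : AlgebraicGeometry.Etale W.hom := W.prop
  haveI : AlgebraicGeometry.Etale V.hom := V.prop
  haveI := FiniteSplit.locallyQuasiFinite_of_etale V.hom
  obtain ⟨w, hw⟩ := (inferInstance : Surjective k).surj v
  have hWk : ∀ z : W.left, V.hom (k z) = f (W.hom z) := fun z => by
    rw [← Scheme.Hom.comp_apply, hk, Scheme.Hom.comp_apply]
  have hdisc := V.hom.isDiscrete_preimage_singleton (V.hom v)
  obtain ⟨O, hO, hOv⟩ := isOpen_induced_iff.1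
    (@isOpen_discrete _ _ hdisc.to_subtype {(⟨v, rfl⟩ : ↥(V.hom ⁻¹' {V.hom v}))})
  have hvO : v ∈ O := hOv.ge (Set.mem_singleton _)
  have hx : W.hom w ∈ W.hom '' (k ⁻¹' O) := ⟨w, show k w ∈ O by rw [hw]; exact hvO, rfl⟩
  obtain ⟨_, ⟨w', hw', rfl⟩, ⟨u, hu⟩, hfib⟩ := mem_closure_iff.1 (hd (W.hom w)) _
    (W.hom.isOpenMap _ (hO.preimage k.continuous)) hx
  have hs : V.hom (k w') = V.hom v := by
    rw [hWk, show f (W.hom w') = f (W.hom w) from hfib, ← hWk, hw]
  have hkv : k w' = v := congrArg Subtype.val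
    (hOv.le (show (⟨k w', hs⟩ : ↥(V.hom ⁻¹' {V.hom v})).1 ∈ O from hw') : (⟨k w', hs⟩ : ↥(V.hom ⁻¹' {V.hom v})) ∈ _)
  obtain ⟨z, hz, -⟩ := Scheme.Pullback.exists_preimage_pullback (f := W.hom) (g := j) w' u hu.symm
  refine ⟨z, ?_⟩
  rw [Scheme.Hom.comp_apply, show bcFst j W z = w' from hz, hkv]

variable [Flat f]

theorem isIso_unit_of_fibrewise_dense [Smooth f] [GeometricallyReduced f]
    (hd : ∀ x : X, x ∈ closure (Set.range j ∩ {y : X | f.base y = f.base x})) (F : EtCoh.Ab S) :
    IsIso ((EtCoh.pullPushAdj j).unit.app ((EtCoh.pull f).obj F)) := by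
  have hf : ShFlat24.GeomRedFibres f := ⟨inferInstance, fun K _ k =>
    GeometricallyReduced.geometrically_isReduced (f := f) k _ _ (IsPullback.of_hasPullback f k)⟩
  let G := (EtCoh.pull f).obj F
  rw [isIso_iff_stalk]
  intro Ω _ _ ξ
  have hchart : ∀ (W₀ : X.Etale) (w₀ : fib ξ W₀), ∃ (W : X.Etale) (m : W ⟶ W₀) (w : fib ξ W) (V : S.Etale)
      (k : W.left ⟶ V.left), GeometricallyConnected k ∧ UniversallyOpen k ∧
      GeometricallyConnected (bcFst j W ≫ k) ∧ UniversallyOpen (bcFst j W ≫ k) ∧
      (Scheme.pointSmallEtale ξ).fiber.map m w = w₀ ∧ k ≫ V.hom = W.hom ≫ f := by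
    intro W₀ w₀
    obtain ⟨W, m, w, V, k, hgc, huo, hw, hk, hsm⟩ := exists_chart f hf ξ W₀ w₀
    haveI := hsm inferInstance
    haveI : Surjective k := inferInstance
    haveI := surjective_restrict f j hd k hk
    haveI : IsOpenImmersion (bcFst j W) := MorphismProperty.pullback_fst W.hom j ‹IsOpenImmersion j›
    exact ⟨W, m, w, V, k, hgc, huo, geometricallyConnected_restrict k (bcFst j W), inferInstance,
      Over.OverMorphism.ext hw, hk⟩
  constructor
  · refine (injective_iff_map_eq_zero ((EtCoh.stalk ξ).map ((EtCoh.pullPushAdj j).unit.app G)).hom).2 fun p hp => ?_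
    obtain ⟨W₀, w₀, σ, rfl⟩ := germ_surjective ξ _ p
    let H := (EtCoh.push j).obj ((EtCoh.pull j).obj G)
    let u := (EtCoh.pullPushAdj j).unit.app G
    have hp' : germ ξ H w₀ (u.hom.app (op W₀) σ) = germ ξ H w₀ 0 := by
      rw [map_zero, ← germ_nat]
      exact hp
    obtain ⟨W₁, m₁, w₁, hw₁, h₁⟩ := (germ_eq_iff ξ _ w₀ _ _).1 hp'
    obtain ⟨W, m, w, V, k, hgc, huo, hgc', huo', hw, hk⟩ := hchart W₁ w₁
    obtain ⟨s, hs⟩ := chartRes_surjective f F k hk (G.obj.map (m ≫ m₁).op σ)
    have hz : res j G (chartRes f F k hk s) = 0 := by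
      rw [hs]
      show u.hom.app (op W) (G.obj.map (m ≫ m₁).op σ) = 0
      refine (NatTrans.naturality_apply u.hom (m ≫ m₁).op σ).trans ?_
      rw [op_comp, Functor.map_comp_apply]
      exact (congrArg (H.obj.map m.op) (h₁.trans (map_zero _))).trans (map_zero _)
    haveI : Surjective (bcFst j W ≫ k) := inferInstance
    have hs0 : s = 0 := by
      refine eq_of_agree F fun v => ?_
      obtain ⟨z, hz'⟩ := (inferInstance : Surjective (bcFst j W ≫ k)).surj v
      let UW := (EtCoh.bc j).obj W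
      let a := geomPt UW.left z
      let b := a ≫ bcFst j W
      let ζ := (a ≫ UW.hom) ≫ j
      have hb : b ≫ W.hom = ζ := by
        exact (Category.assoc _ _ _).trans ((congrArg (a ≫ ·) pullback.condition).trans (Category.assoc _ _ _).symm)
      have hn : (b ≫ k) ≫ V.hom = ζ ≫ f := by
        rw [Category.assoc, hk, ← Category.assoc, hb]
      let φ : fib (ζ ≫ f) V := Over.homMk (b ≫ k) hn
      rw [← hz', show (bcFst j W ≫ k) z = fibPt φ by
        show _ = (b ≫ k) default
        simp only [b, a, Scheme.Hom.comp_apply, geomPt_default]]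
      refine (mem_agree_iff_germ F φ s 0).2 ?_
      have h2 : val G ζ b hb (chartRes f F k hk s) = 0 := by
        refine (ConcreteCategory.bijective_of_isIso (stalkPull j (a ≫ UW.hom) G)).1 ?_
        rw [← val_res j G (a ≫ UW.hom) b hb a rfl rfl, hz, map_zero]
        exact map_zero _
      have h3 := at_res (ζ := ζ) (a := b) (ha := hb) f F s (toBc f k hk) (b ≫ k) hn
        (congrArg (b ≫ ·) (toBc_fst f k hk))
      refine (ConcreteCategory.bijective_of_isIso (stalkPull f ζ F)).1 ((h3.symm.trans h2).trans ?_)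
      rw [map_zero, map_zero]
    rw [← hw₁, ← hw, ← germ_map, ← germ_map, ← Functor.map_comp_apply, ← op_comp]
    show germ ξ G w (G.obj.map (m ≫ m₁).op σ) = 0
    rw [← hs, hs0]
    show germ ξ G w (((EtCoh.pull f).obj F).obj.map (toBc f k hk).op (res f F 0)) = 0
    rw [show res f F (0 : F.obj.obj (op V)) = 0 from map_zero _, map_zero, map_zero]
  · intro q
    obtain ⟨W₀, w₀, t₀, rfl⟩ := germ_surjective ξ _ q
    obtain ⟨W, m, w, V, k, hgc, huo, hgc', huo', hw, hk⟩ := hchart W₀ w₀
    let t : ((EtCoh.pull j).obj G).obj.obj (op ((EtCoh.bc j).obj W)) :=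
      ((EtCoh.push j).obj ((EtCoh.pull j).obj G)).obj.map m.op t₀
    let UW := (EtCoh.bc j).obj W
    have hk' : (bcFst j W ≫ k) ≫ V.hom = UW.hom ≫ j ≫ f := by
      show (pullback.fst W.hom j ≫ k) ≫ V.hom = pullback.snd W.hom j ≫ j ≫ f
      rw [Category.assoc, hk, pullback.condition_assoc]
    obtain ⟨s, hs⟩ := chartRes_surjective (j ≫ f) F (bcFst j W ≫ k) hk' (toComp F j f t)
    refine ⟨germ ξ G w (chartRes f F k hk s), ?_⟩
    refine (germ_nat ξ ((EtCoh.pullPushAdj j).unit.app G) w _).trans ?_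
    rw [← hw, ← germ_map]
    refine congrArg _ ?_
    show res j G (chartRes f F k hk s) = t
    refine ext_val (fun K _ _ ζ a ha => ?_)
    let b := a ≫ bcFst j W
    have hb : b ≫ W.hom = ζ ≫ j := by
      rw [← ha]
      exact (Category.assoc _ _ _).trans ((congrArg (a ≫ ·) pullback.condition).trans (Category.assoc _ _ _).symm)
    have hn : (b ≫ k) ≫ V.hom = (ζ ≫ j) ≫ f := by
      rw [Category.assoc, hk, ← Category.assoc, hb]
    have h1 : val ((EtCoh.pull j).obj G) ζ a ha (res j G (chartRes f F k hk s)) =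
        stalkPull j ζ G (stalkPull f (ζ ≫ j) F (val F ((ζ ≫ j) ≫ f) (b ≫ k) hn s)) :=
      (val_res j G ζ b hb a ha rfl _).trans (congrArg _
        (at_res (ζ := ζ ≫ j) (a := b) (ha := hb) f F s (toBc f k hk) (b ≫ k) hn
          (congrArg (b ≫ ·) (toBc_fst f k hk))))
    have h2 : val ((EtCoh.pull j).obj G) ζ a ha t =
        stalkPull j ζ G (stalkPull f (ζ ≫ j) F (val F ((ζ ≫ j) ≫ f) (b ≫ k) hn s)) := by
      refine val_of_at_toComp F j f t a ha (b ≫ k) hn s ?_
      rw [← hs]
      exact at_res (j ≫ f) F s (toBc (j ≫ f) (bcFst j W ≫ k) hk') (b ≫ k) _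
        ((congrArg (a ≫ ·) (toBc_fst (j ≫ f) (bcFst j W ≫ k) hk')).trans (Category.assoc _ _ _).symm)
    exact h1.trans h2.symm

end Groth.Agent.ShChart24
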