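import Groth.Agent.Lib.ShFlat24.Main
import Groth.Agent.Lib.ProperPush24.Glue

/-!
# Sections of inverse images on charts with connected fibres
-/

universe u

open CategoryTheory CategoryTheory.Limits AlgebraicGeometry Opposite

set_option backward.isDefEq.respectTransparency.types false

namespace Groth.Agent.ShChart24

open Groth.Agent.EtStalk Groth.Agent.Gabber24 Groth.Agent.ConnDescent24 Groth.Agent.ProperPush24

/-- Global sections of the inverse image to an etale scheme are sections on it. -/
theorem exists_section_etale {S : Scheme.{u}} (V : S.Etale) (F : EtCoh.Ab S)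
    (σ : ((EtCoh.pull V.hom).obj F).obj.obj (op (EtCoh.top V.left))) :
    ∃ s : F.obj.obj (op V), ∀ (K : Type u) [Field K] [IsSepClosed K] (z : Spec (CommRingCat.of K) ⟶ V.left),
      At V.hom F σ z z (Category.comp_id z) z rfl s := by
  have hloc : ∀ x : V.left, ∃ (M : S.Etale) (g : M ⟶ V) (s : F.obj.obj (op M)),
      (∃ y, g.left y = x) ∧ ∀ (K : Type u) [Field K] [IsSepClosed K] (c : Spec (CommRingCat.of K) ⟶ M.left),
        At V.hom F σ (c ≫ g.left) (c ≫ g.left) (Category.comp_id _) c
          (by rw [Category.assoc, MorphismProperty.Over.w]) s := by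
    intro x
    obtain ⟨N, s, b, hb, hbx⟩ := exists_good V.hom F σ x
    let P := Gabber24.prod V N
    let ι : P.left ⟶ cmpScheme V.hom (EtCoh.top V.left) N :=
      pullback.lift (pullback.fst V.hom N.hom) (pullback.snd V.hom N.hom)
        ((congrArg (pullback.fst V.hom N.hom ≫ ·) (Category.id_comp V.hom)).trans pullback.condition)
    let O : P.left.Opens := ⟨ι ⁻¹' good V.hom F σ s, (isOpen_good V.hom F σ s).preimage ι.continuous⟩
    let ι' : cmpScheme V.hom (EtCoh.top V.left) N ⟶ P.left :=
      pullback.lift (pullback.fst ((EtCoh.top V.left).hom ≫ V.hom) N.hom) (pullback.snd _ N.hom)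
        ((congrArg (pullback.fst ((EtCoh.top V.left).hom ≫ V.hom) N.hom ≫ ·) (Category.id_comp V.hom).symm).trans
          pullback.condition)
    have hι : ι' ≫ ι = 𝟙 _ := pullback.hom_ext
      ((Category.assoc _ _ _).trans ((congrArg (ι' ≫ ·) (pullback.lift_fst _ _ _)).trans
        ((pullback.lift_fst _ _ _).trans (Category.id_comp _).symm)))
      ((Category.assoc _ _ _).trans ((congrArg (ι' ≫ ·) (pullback.lift_snd _ _ _)).trans
        ((pullback.lift_snd _ _ _).trans (Category.id_comp _).symm)))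
    have hbO : ι' b ∈ O := by
      show ι (ι' b) ∈ good V.hom F σ s
      rw [← Scheme.Hom.comp_apply, hι]
      exact hb
    refine ⟨EtSite.sub P O, EtSite.subHom P O ≫ prodFst V N,
      F.obj.map (EtSite.subHom P O ≫ prodSnd V N).op s, ⟨⟨ι' b, hbO⟩, ?_⟩, fun K _ _ c => ?_⟩
    · show (prodFst V N).left (ι' b) = x
      rw [← hbx]
      exact (Scheme.Hom.comp_apply ι' (pullback.fst V.hom N.hom) b).symm.trans
        (congrArg (fun t : cmpScheme V.hom (EtCoh.top V.left) N ⟶ V.left => t b) (pullback.lift_fst _ _ _))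
    let cP : Spec (CommRingCat.of K) ⟶ P.left := c ≫ O.ι
    let z : Spec (CommRingCat.of K) ⟶ V.left := cP ≫ (prodFst V N).left
    have hz : c ≫ (EtSite.subHom P O ≫ prodFst V N).left = z := (Category.assoc _ _ _).symm
    let n : Spec (CommRingCat.of K) ⟶ N.left := cP ≫ (prodSnd V N).left
    have hn : n ≫ N.hom = z ≫ V.hom :=
      (Category.assoc _ _ _).trans ((congrArg (cP ≫ ·) ((MorphismProperty.Over.w (prodSnd V N)).trans
        (MorphismProperty.Over.w (prodFst V N)).symm)).trans (Category.assoc _ _ _).symm)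
    have h1 := (mem_good_iff V.hom F σ s (cP ≫ ι) z z n
      ((Category.assoc _ _ _).trans (congrArg (cP ≫ ·) (pullback.lift_fst _ _ _)))
      ((Category.assoc _ _ _).trans (congrArg (cP ≫ ·) (pullback.lift_snd _ _ _)))
      (Category.comp_id z) hn).1 (by
        rw [Scheme.Hom.comp_apply]
        exact (c default).2)
    have key : ∀ (z' : Spec (CommRingCat.of K) ⟶ V.left) (e : z = z')
        (hc : c ≫ (EtSite.sub P O).hom = z' ≫ V.hom),
        At V.hom F σ z' z' (Category.comp_id _) c hc (F.obj.map (EtSite.subHom P O ≫ prodSnd V N).op s) := by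
      rintro _ rfl hc
      exact h1.trans (congrArg _ (val_map F (z ≫ V.hom) (EtSite.subHom P O ≫ prodSnd V N) c hc n hn
        (Category.assoc c O.ι _).symm s).symm)
    exact key _ hz.symm _
  choose M g s hcov hval using hloc
  obtain ⟨t, ht⟩ := exists_glue F M g s (fun z => ⟨z, hcov z⟩) fun k l K _ _ ζ a b hab ha hb => by
    have key : ∀ (z : Spec (CommRingCat.of K) ⟶ V.left) (e : a ≫ (g k).left = z) (e' : b ≫ (g l).left = z)
        (ha' : a ≫ (M k).hom = z ≫ V.hom) (hb' : b ≫ (M l).hom = z ≫ V.hom),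
        val F (z ≫ V.hom) a ha' (s k) = val F (z ≫ V.hom) b hb' (s l) := by
      rintro _ rfl e' ha' hb'
      refine At.val_eq (hval k K a) ?_
      have h2 := hval l K b
      exact (congrArg (fun q : Spec (CommRingCat.of K) ⟶ V.left => ∀ hq, At V.hom F σ q q (Category.comp_id q) b hq (s l)) e').mp
        (fun _ => h2) hb'
    have hz : ζ = (a ≫ (g k).left) ≫ V.hom := by
      rw [Category.assoc, MorphismProperty.Over.w, ha]
    subst hz
    exact key _ rfl hab.symm _ _
  refine ⟨t, fun K _ _ z => ?_⟩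
  obtain ⟨y, hy⟩ := hcov (z default)
  obtain ⟨φ, hφ⟩ := Scheme.pointSmallEtaleFiberObjToPreimage_surjective z
    (s₀ := z default) rfl
    (haveI := (M (z default)).prop
     haveI : AlgebraicGeometry.Etale (g (z default)).left := EtStalk.etale_left (g (z default))
     Scheme.Etale.mk (g (z default)).left) ⟨y, hy⟩
  let c : Spec (CommRingCat.of K) ⟶ (M (z default)).left := φ.left
  have hc : c ≫ (g (z default)).left = z := Over.w φ
  have hcM : c ≫ (M (z default)).hom = z ≫ V.hom :=
    ((congrArg (c ≫ ·) (MorphismProperty.Over.w (g (z default))).symm).trans (Category.assoc _ _ _).symm).trans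
      (congrArg (· ≫ V.hom) hc)
  have h1 : At V.hom F σ z z (Category.comp_id _) c hcM (s (z default)) :=
    (congrArg (fun q : Spec (CommRingCat.of K) ⟶ V.left => ∀ hq, At V.hom F σ q q (Category.comp_id q) c hq (s (z default))) hc).mp
      (fun _ => hval (z default) K c) hcM
  refine h1.congr ?_
  rw [← ht (z default)]
  exact val_map F _ (g (z default)) c hcM z rfl hc t

variable {X S : Scheme.{u}} (f : X ⟶ S) (F : EtCoh.Ab S) {W : X.Etale} {V : S.Etale} (k : W.left ⟶ V.left)
  (hk : k ≫ V.hom = W.hom ≫ f)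

/-- The map to the base change given by a chart. -/
noncomputable def toBc : W ⟶ (EtCoh.bc f).obj V :=
  MorphismProperty.Over.homMk (pullback.lift k W.hom hk) (pullback.lift_snd _ _ _)

lemma toBc_fst : (toBc f k hk).left ≫ bcFst f V = k := pullback.lift_fst _ _ _

/-- The sections on a chart coming from the base. -/
noncomputable abbrev chartRes (s : F.obj.obj (op V)) : ((EtCoh.pull f).obj F).obj.obj (op W) :=
  ((EtCoh.pull f).obj F).obj.map (toBc f k hk).op (res f F s)

/-- Sections from the base agree if they do on a surjective chart. -/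
theorem chartRes_injective [Surjective k] : Function.Injective (chartRes f F k hk) := by
  intro s t h
  refine eq_of_agree F fun v => ?_
  obtain ⟨w, rfl⟩ := (inferInstance : Surjective k).surj v
  let a := geomPt W.left w
  let ζ := a ≫ W.hom
  have hn : (a ≫ k) ≫ V.hom = ζ ≫ f := by rw [Category.assoc, hk, Category.assoc]
  have hm : a ≫ (toBc f k hk).left ≫ bcFst f V = a ≫ k := congrArg (a ≫ ·) (toBc_fst f k hk)
  have h1 := at_res (ζ := ζ) (a := a) (ha := rfl) f F s (toBc f k hk) (a ≫ k) hn hm
  have h2 := at_res (ζ := ζ) (a := a) (ha := rfl) f F t (toBc f k hk) (a ≫ k) hn hm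
  let φ : fib (ζ ≫ f) V := Over.homMk (a ≫ k) hn
  rw [show k w = fibPt φ by
    show k w = (a ≫ k) default
    rw [Scheme.Hom.comp_apply, geomPt_default]]
  refine (mem_agree_iff_germ F φ s t).2 ((ConcreteCategory.bijective_of_isIso (stalkPull f ζ F)).1 ?_)
  refine Eq.trans (Eq.trans h1.symm ?_) h2
  exact congrArg (val ((EtCoh.pull f).obj F) ζ a rfl) h

/-- On a chart with geometrically connected fibres all sections come from the base. -/
theorem chartRes_surjective [GeometricallyConnected k] [UniversallyOpen k] :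
    Function.Surjective (chartRes f F k hk) := by
  intro σ
  let G := (EtCoh.pull f).obj F
  let F' := (EtCoh.pull V.hom).obj F
  let m₀ : EtCoh.top W.left ⟶ (EtCoh.bc W.hom).obj W :=
    MorphismProperty.Over.homMk (pullback.lift (𝟙 _) (𝟙 _) rfl) (pullback.lift_snd _ _ _)
  let τ := ((EtCoh.pull W.hom).obj G).obj.map m₀.op (res W.hom G σ)
  obtain ⟨σ₁, hσ₁⟩ := ShFlat24.exists_congr_map hk.symm F (toComp F W.hom f τ)
  obtain ⟨ρ, hρ⟩ := (bijective_unit_top k F').2
    (((EtCoh.pull k).obj F').obj.map (EtCore.bcTopIso k).hom.op (fromComp F k V.hom σ₁))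
  obtain ⟨s, hs⟩ := exists_section_etale V F ρ
  refine ⟨s, (ext_val (fun K _ _ ζ a ha => ?_)).symm⟩
  subst ha
  obtain ⟨N, n, hn, s', hs'⟩ := exists_at f F σ (a ≫ W.hom) a rfl
  have hn₁ : n ≫ N.hom = a ≫ W.hom ≫ f := hn.trans (Category.assoc _ _ _)
  have hτ : At W.hom G τ a a (Category.comp_id a) a rfl σ :=
    at_res W.hom G σ m₀ a rfl ((congrArg (a ≫ ·) (pullback.lift_fst _ _ _)).trans (Category.comp_id a))
  have hA := hσ₁ K a N n hn₁ s' (at_toComp F W.hom f τ a (Category.comp_id a) n hn s'
    (hτ.trans (congrArg _ hs')))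
  have e3 : ((EtCoh.pull k).obj F').obj.map (EtCore.bcTopIso k).inv.op (res k F' ρ) = fromComp F k V.hom σ₁ := by
    show ((EtCoh.pull k).obj F').obj.map _ (((EtCoh.pullPushAdj k).unit.app _).hom.app _ ρ) = _
    rw [hρ, ← Functor.map_comp_apply, ← op_comp, Iso.inv_hom_id, op_id, Functor.map_id_apply]
    rfl
  have h1 : At k F' (fromComp F k V.hom σ₁) a a (Category.comp_id a) (a ≫ k) (Category.comp_id _) ρ :=
    e3 ▸ at_res k F' ρ (EtCore.bcTopIso k).inv (a ≫ k) (Category.comp_id _)
      (congrArg (a ≫ ·) (ShFlat24.bcTop_inv_proj k))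
  have h2 := at_toComp F k V.hom (fromComp F k V.hom σ₁) a (Category.comp_id a) (a ≫ k) rfl s
    (h1.trans (congrArg _ (hs K (a ≫ k))))
  rw [toComp_fromComp] at h2
  have h3 := hA.val_eq h2
  have hn₂ : (a ≫ k) ≫ V.hom = (a ≫ W.hom) ≫ f := by rw [Category.assoc, hk, Category.assoc]
  have e4 : (a ≫ W.hom) ≫ f = a ≫ k ≫ V.hom := by rw [Category.assoc, hk]
  refine (hs'.trans (congrArg _ ?_)).trans
    (at_res f F s (toBc f k hk) (a ≫ k) hn₂ (congrArg (a ≫ ·) (toBc_fst f k hk))).symm
  exact (val_congr' F e4 rfl rfl (ha := hn) (hb := hn₂)).2 h3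

end Groth.Agent.ShChart24
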